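import Groth.Agent.EtSupp13.Main
import Mathlib.Topology.KrullDimension

/-! Sheaves supported away from generic points as filtered colimits of sheaves supported on small closed sets -/

set_option autoImplicit false
set_option backward.isDefEq.respectTransparency false
set_option backward.isDefEq.respectTransparency.types false
set_option linter.style.haveILetI false

noncomputable section

universe u

open CategoryTheory CategoryTheory.Limits AlgebraicGeometry Opposite

namespace Groth.Agent.RatCoh13

open Groth.Agent.EtFound Groth.Agent.EtSupp13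

variable (X : Scheme.{u})

/-- the points which are not maximal for specialization -/
def nonGen : Set X := {x | ∃ y : X, y ⤳ x ∧ y ≠ x}

variable {X}

theorem nonGen_of_specializes {x z : X} (hx : x ∈ nonGen X) (h : x ⤳ z) : z ∈ nonGen X := by
  obtain ⟨y, hy, hne⟩ := hx
  refine ⟨y, hy.trans h, fun e => hne ?_⟩
  subst e
  exact (hy.antisymm h).eq

/-- finite sets of non-generic points -/
abbrev GIdx (X : Scheme.{u}) : Type (u + 1) := Finset (ULift.{u + 1} (nonGen X))

/-- the closed set they span -/
def gSet (s : GIdx X) : Set X := ⋃ p ∈ (s : Set (ULift.{u + 1} (nonGen X))), closure {(p.down : X)}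

theorem isClosed_gSet (s : GIdx X) : IsClosed (gSet s) :=
  s.finite_toSet.isClosed_biUnion fun _ _ => isClosed_closure

theorem gSet_subset (s : GIdx X) : gSet s ⊆ nonGen X :=
  Set.iUnion₂_subset fun p _ _ hy => nonGen_of_specializes p.down.2 (specializes_iff_mem_closure.2 hy)

theorem gSet_mono {s t : GIdx X} (h : s ≤ t) : gSet s ⊆ gSet t :=
  Set.biUnion_mono (Finset.coe_subset.2 h) fun _ _ => subset_rfl

theorem exists_gIdx {A : Set X} (hA : A.Finite) (hA' : A ⊆ nonGen X) : ∃ t : GIdx X, A ⊆ gSet t := by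
  classical
  haveI := hA.fintype
  let f : A → ULift.{u + 1} (nonGen X) := fun x => ⟨⟨x.1, hA' x.2⟩⟩
  exact ⟨Finset.univ.image f, fun x hx => Set.mem_biUnion
    (Finset.mem_coe.2 (Finset.mem_image.2 ⟨⟨x, hx⟩, Finset.mem_univ _, rfl⟩)) (subset_closure rfl)⟩

theorem topologicalKrullDim_gSet (s : GIdx X) {d : ℕ} (hd : topologicalKrullDim X ≤ (d + 1 : ℕ)) :
    topologicalKrullDim ↥(gSet s) ≤ (d : ℕ) := by
  refine iSup_le fun l => ?_
  let l' := l.map _ (TopologicalSpace.IrreducibleCloseds.map_strictMono_of_isInducing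
    (Topology.IsInducing.subtypeVal (t := gSet s)))
  let C : TopologicalSpace.IrreducibleCloseds X := l'.last
  have hsub : (C : Set X) ⊆ gSet s :=
    closure_minimal (Subtype.coe_image_subset _ _) (isClosed_gSet s)
  have hg : IsGenericPoint C.isIrreducible'.genericPoint (C : Set X) :=
    C.isIrreducible'.isGenericPoint_genericPoint C.isClosed'
  obtain ⟨y, hy, hne⟩ := gSet_subset s (hsub hg.mem)
  let D : TopologicalSpace.IrreducibleCloseds X :=
    ⟨closure {y}, isIrreducible_singleton.closure, isClosed_closure⟩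
  have hlt : C < D := by
    refine lt_of_le_of_ne (show (C : Set X) ⊆ closure {y} from ?_) fun e => hne ?_
    · rw [← hg.def]
      exact closure_minimal (Set.singleton_subset_iff.2 (specializes_iff_mem_closure.1 hy)) isClosed_closure
    · have hy' : y ∈ (C : Set X) := by rw [e]; exact subset_closure rfl
      exact (hy.antisymm (hg.specializes hy')).eq
  have h := (Order.LTSeries.length_le_krullDim (l'.snoc D hlt)).trans hd
  simp only [RelSeries.snoc_length] at h
  have h' : l'.length + 1 ≤ d + 1 := by exact_mod_cast h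
  exact_mod_cast (show l.length ≤ d by exact Nat.le_of_succ_le_succ h')

theorem nonGen_eq_empty (hd : topologicalKrullDim X ≤ (0 : ℕ)) : nonGen X = ∅ := by
  refine Set.eq_empty_of_forall_notMem fun x ⟨y, hy, hne⟩ => ?_
  let C : TopologicalSpace.IrreducibleCloseds X := ⟨closure {x}, isIrreducible_singleton.closure, isClosed_closure⟩
  let D : TopologicalSpace.IrreducibleCloseds X := ⟨closure {y}, isIrreducible_singleton.closure, isClosed_closure⟩
  have hlt : C < D := by
    refine lt_of_le_of_ne (show closure ({x} : Set X) ⊆ closure {y} from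
      closure_minimal (Set.singleton_subset_iff.2 (specializes_iff_mem_closure.1 hy)) isClosed_closure) fun e => hne ?_
    have hxy : x ⤳ y := specializes_iff_mem_closure.2
      ((congrArg (fun S : TopologicalSpace.IrreducibleCloseds X => y ∈ (S : Set X)) e).mpr (subset_closure rfl))
    exact (hy.antisymm hxy).eq
  have h := (Order.LTSeries.length_le_krullDim ((RelSeries.singleton _ C).snoc D hlt)).trans hd
  simp only [RelSeries.snoc_length] at h
  exact absurd (show (1 : WithBot ℕ∞) ≤ 0 by simpa using h) (not_le.2 zero_lt_one)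

variable (F : EtCoh.Ab X)

/-- the complement -/
def gComp (s : GIdx X) : X.Opens := ⟨(gSet s)ᶜ, (isClosed_gSet s).isOpen_compl⟩

theorem mem_range_gComp_ι {s : GIdx X} {x : X} : x ∈ Set.range (gComp s).ι.base ↔ x ∉ gSet s := by
  rw [Scheme.Opens.range_ι]
  rfl

/-- restriction off the closed set -/
def gRes (s : GIdx X) : F ⟶ (EtCoh.push (gComp s).ι).obj ((EtCoh.pull (gComp s).ι).obj F) :=
  (EtCoh.pullPushAdj (gComp s).ι).unit.app F

/-- sections supported in the closed set -/
def gPart (s : GIdx X) : EtCoh.Ab X := kernel (gRes F s)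

theorem isZero_stalk_gPart (s : GIdx X) {Ω : Type u} [Field Ω] [IsSepClosed Ω]
    (ξ : Spec (CommRingCat.of Ω) ⟶ X) (hξ : ξ.base (default : Spec (CommRingCat.of Ω)) ∉ gSet s) :
    IsZero ((EtCoh.stalk ξ).obj (gPart F s)) := by
  have : IsIso ((EtCoh.stalk ξ).map (gRes F s)) :=
    isIso_stalk_unit_open (gComp s).ι F ξ (mem_range_gComp_ι.2 hξ)
  have h0 : (EtCoh.stalk ξ).map (kernel.ι (gRes F s)) = 0 := by
    rw [← cancel_mono ((EtCoh.stalk ξ).map (gRes F s)), ← Functor.map_comp, kernel.condition, Functor.map_zero,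
      zero_comp]
  exact IsZero.of_mono_eq_zero _ h0

theorem gPartIncl_res {s t : GIdx X} (h : s ≤ t) : kernel.ι (gRes F s) ≫ gRes F t = 0 :=
  eq_zero_of_stalks (gComp t).ι (G := gPart F s) (fun Ω _ _ ξ hξ =>
    isZero_stalk_gPart F s ξ fun hs => mem_range_gComp_ι.1 hξ (gSet_mono h hs)) _

/-- the system of these subsheaves -/
def gParts : GIdx X ⥤ EtCoh.Ab X where
  obj s := gPart F s
  map {s t} h := kernel.lift (gRes F t) (kernel.ι (gRes F s)) (gPartIncl_res F (leOfHom h))
  map_id s := (cancel_mono (kernel.ι (gRes F s))).1 ((kernel.lift_ι _ _ _).trans (Category.id_comp _).symm)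
  map_comp f g := (cancel_mono (kernel.ι (gRes F _))).1 (by
    rw [Category.assoc, kernel.lift_ι, kernel.lift_ι, kernel.lift_ι])

/-- the cocone to the sheaf -/
def gCocone : Cocone (gParts F) where
  pt := F
  ι := { app := fun s => kernel.ι (gRes F s)
         naturality := fun s t f => (kernel.lift_ι _ _ _).trans (Category.comp_id _).symm }

/-- a sheaf supported off the generic points is the colimit of its parts -/
theorem isIso_gDesc [IsLocallyNoetherian X] (hF : EtPBC.supp F ⊆ nonGen X) :
    IsIso (colimit.desc (gParts F) (gCocone F)) := by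
  classical
  refine (isIso_iff_stalks _).2 fun Ω _ _ ξ => (ConcreteCategory.isIso_iff_bijective _).2 ⟨?_, ?_⟩
  · refine (injective_iff_map_eq_zero ((EtCoh.stalk ξ).map (colimit.desc (gParts F) (gCocone F))).hom).2
      fun x hx => ?_
    obtain ⟨s, y, rfl⟩ := Concrete.isColimit_exists_rep _
      (isColimitOfPreserves (EtCoh.stalk ξ) (colimit.isColimit (gParts F))) x
    have hy : (EtCoh.stalk ξ).map (kernel.ι (gRes F s)) y = 0 := by
      refine Eq.trans ?_ hx
      exact ConcreteCategory.congr_hom
        ((congrArg (EtCoh.stalk ξ).map (colimit.ι_desc (gCocone F) s)).symm.trans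
          ((EtCoh.stalk ξ).map_comp _ _)) y
    have : y = 0 := (AddCommGrpCat.mono_iff_injective ((EtCoh.stalk ξ).map (kernel.ι (gRes F s)))).1 inferInstance
      (hy.trans (map_zero _).symm)
    rw [this]
    exact map_zero _
  · intro p
    obtain ⟨U, z, σ, rfl⟩ := (Scheme.pointSmallEtale ξ).toPresheafFiber_jointly_surjective p
    haveI : AlgebraicGeometry.Etale U.hom := U.prop
    haveI : LocallyOfFiniteType (U.hom : U.left ⟶ X) := inferInstance
    haveI : IsLocallyNoetherian U.left :=
      @LocallyOfFiniteType.isLocallyNoetherian U.left X U.hom _ ‹IsLocallyNoetherian X›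
    obtain ⟨A, hA, hzA, -⟩ := exists_isAffineOpen_mem_and_subset (X := U.left) (x := ptOf z) (U := ⊤) trivial
    let C : Set ↥(A : Scheme.{u}) := A.ι.base ⁻¹' germSupp F U σ
    haveI : IsAffine (A : Scheme.{u}) := hA
    haveI : TopologicalSpace.NoetherianSpace ↥(A : Scheme.{u}) := by
      haveI := IsLocallyNoetherian.component_noetherian (X := U.left) ⟨A, hA⟩
      exact noetherianSpace_of_isAffineOpen A hA
    have hsupp : ∀ q ∈ germSupp F U σ, U.hom.base q ∈ EtPBC.supp F := fun q hq => by
      obtain ⟨L, _, _, θ, w, rfl⟩ := exists_algClosed_point U q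
      rw [base_of_point w]
      refine (mem_supp_iff θ).2 fun hsub => ?_
      exact (mem_germSupp_iff σ w).1 hq (hsub.elim _ _)
    obtain ⟨T, hTf, hTcl, hTirr, hTC⟩ := TopologicalSpace.NoetherianSpace.exists_finite_set_isClosed_irreducible
      ((isClosed_germSupp F U σ).preimage A.ι.continuous : IsClosed C)
    have hgen : ∀ Z ∈ T, ∃ g : ↥(A : Scheme.{u}), g ∈ C ∧ IsGenericPoint g Z := fun Z hZ =>
      have h := (hTirr Z hZ).isGenericPoint_genericPoint (hTcl Z hZ)
      ⟨_, hTC.ge ⟨Z, hZ, h.mem⟩, h⟩
    choose g₀ hg₀C hg₀ using hgen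
    haveI := hTf.to_subtype
    obtain ⟨t, ht⟩ := exists_gIdx (A := Set.range fun Z : T => U.hom.base (A.ι.base (g₀ Z Z.2)))
      (Set.finite_range _) (by rintro _ ⟨Z, rfl⟩; exact hF (hsupp _ (hg₀C Z Z.2)))
    have hCt : ∀ y ∈ C, U.hom.base (A.ι.base y) ∈ gSet t := fun y hy => by
      obtain ⟨Z, hZ, hyZ⟩ := hTC.le hy
      refine ((specializes_iff_mem_closure.1 (((hg₀ Z hZ).specializes hyZ).map A.ι.continuous |>.map U.hom.continuous))
        |> fun h => closure_minimal (Set.singleton_subset_iff.2 (ht ⟨⟨Z, hZ⟩, rfl⟩)) (isClosed_gSet t) h)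
    let V : X.Etale := restrictEtale U A
    let g : V ⟶ U := restrictEtaleHom U A
    obtain ⟨v, hv, -⟩ := exists_lift_point g z ⟨_, hzA⟩ rfl
    let τ := F.obj.map g.op σ
    have hτ : (gRes F t).hom.app (op V) τ = 0 := by
      refine eq_of_cover ((EtCoh.pull (gComp t).ι).obj F) (U := (EtCoh.bc (gComp t).ι).obj V)
        ((gRes F t).hom.app (op V) τ) 0 (equalizerSieve_mem_of_germs _ _ _ _ fun L _ _ θ w => ?_)
      refine Eq.trans ?_ (congrArg _ (map_zero ((gRes F t).hom.app (op V)).hom))
      refine (germ_unit_eq_iff (gComp t).ι θ F V w τ 0).2 ?_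
      rw [map_zero]
      by_contra h
      rw [(Scheme.pointSmallEtale (θ ≫ (gComp t).ι)).toPresheafFiber_w_apply] at h
      have hmem := (mem_germSupp_iff σ _).2 h
      set w' := bcFiberEquiv (gComp t).ι θ V w
      rw [ptOf_map] at hmem
      have hnot : V.hom.base (ptOf w') ∉ gSet t := by
        erw [base_of_point w']
        exact mem_range_gComp_ι.1 ⟨_, (Scheme.Hom.comp_apply _ _ _).symm⟩
      exact hnot (hCt (ptOf w') hmem)
    let S := ShortComplex.mk (kernel.ι (gRes F t)) (gRes F t) (kernel.condition _)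
    have hS : S.Exact := ShortComplex.exact_of_f_is_kernel _ (kernelIsKernel _)
    obtain ⟨k, hk⟩ := (SiteBase.secExact_iff S V).1 (hS.map_of_mono_of_preservesKernel
      (sheafToPresheaf X.smallEtaleTopology AddCommGrpCat.{u + 1} ⋙
        (evaluation X.Etaleᵒᵖ AddCommGrpCat.{u + 1}).obj (op V)) inferInstance inferInstance) τ hτ
    refine ⟨(EtCoh.stalk ξ).map (colimit.ι (gParts F) t)
      ((Scheme.pointSmallEtale ξ).toPresheafFiber V v (gPart F t).obj k), ?_⟩
    refine (ConcreteCategory.congr_hom
      (((EtCoh.stalk ξ).map_comp _ _).symm.trans (congrArg (EtCoh.stalk ξ).map (colimit.ι_desc (gCocone F) t))) _).trans ?_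
    refine ((Scheme.pointSmallEtale ξ).toPresheafFiber_naturality_apply (kernel.ι (gRes F t)).hom V v k).trans ?_
    refine (congrArg _ hk).trans ?_
    rw [← hv]
    exact (Scheme.pointSmallEtale ξ).toPresheafFiber_w_apply g v F.obj σ

end Groth.Agent.RatCoh13
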