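import Groth.Agent.RatCoh13.LiftLoc
import Groth.Agent.RatCoh13.Supported
import Groth.Agent.S0171
import Groth.Agent.EtTrace.Torsion
import Groth.Agent.EtFound.PushExact
import Mathlib.Algebra.Homology.DerivedCategory.Ext.ExactSequences

/-! Cohomology of uniquely divisible sheaves vanishes above the dimension -/

set_option autoImplicit false
set_option backward.isDefEq.respectTransparency false
set_option backward.isDefEq.respectTransparency.types false
set_option linter.style.haveILetI false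

universe u

open CategoryTheory CategoryTheory.Limits AlgebraicGeometry Opposite CategoryTheory.Abelian

namespace Groth.Agent.RatCoh13

open Groth.Agent.EtFound

variable {X Y : Scheme.{u}}

/-- sheaves of rational vector spaces -/
def QMod (F : EtCoh.Ab X) : Prop := ∀ n : ℕ, 0 < n → IsIso (n • 𝟙 F)

theorem qMod_map (G : EtCoh.Ab X ⥤ EtCoh.Ab Y) [G.Additive] {F : EtCoh.Ab X} (h : QMod F) : QMod (G.obj F) :=
  fun n hn => by
    haveI := h n hn
    rw [← G.map_id F, ← Functor.map_nsmul]
    infer_instance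

theorem qMod_kernel {F G : EtCoh.Ab X} (hF : QMod F) (hG : QMod G) (a : F ⟶ G) : QMod (kernel a) := by
  intro n hn
  haveI := hF n hn
  haveI := hG n hn
  have h : (n • 𝟙 F) ≫ a = a ≫ (n • 𝟙 G) := by
    rw [Preadditive.nsmul_comp, Category.id_comp, Preadditive.comp_nsmul, Category.comp_id]
  have e : (kernel.mapIso a a (asIso (n • 𝟙 F)) (asIso (n • 𝟙 G)) h.symm).hom = n • 𝟙 (kernel a) := by
    refine (cancel_mono (kernel.ι a)).1 ((kernel.lift_ι _ _ _).trans ?_)
    rw [Preadditive.nsmul_comp, Category.id_comp, asIso_hom, Preadditive.comp_nsmul, Category.comp_id]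
  rw [← e]
  infer_instance

theorem qMod_cokernel {F G : EtCoh.Ab X} (hF : QMod F) (hG : QMod G) (a : F ⟶ G) : QMod (cokernel a) := by
  intro n hn
  haveI := hF n hn
  haveI := hG n hn
  have h : a ≫ (n • 𝟙 G) = (n • 𝟙 F) ≫ a := by
    rw [Preadditive.nsmul_comp, Category.id_comp, Preadditive.comp_nsmul, Category.comp_id]
  have e : (cokernel.mapIso a a (asIso (n • 𝟙 F)) (asIso (n • 𝟙 G)) h).hom = n • 𝟙 (cokernel a) := by
    refine (cancel_epi (cokernel.π a)).1 ((cokernel.π_desc _ _ _).trans ?_)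
    rw [Preadditive.comp_nsmul, Category.comp_id, asIso_hom, Preadditive.nsmul_comp, Category.id_comp]
  rw [← e]
  infer_instance

theorem qMod_biproduct {ι : Type u} [Finite ι] (P : ι → EtCoh.Ab X) (h : ∀ i, QMod (P i)) : QMod (⨁ P) := by
  intro n hn
  haveI := fun i => h i n hn
  have e : (biproduct.mapIso fun i => asIso (n • 𝟙 (P i))).hom = n • 𝟙 (⨁ P) := by
    refine biproduct.hom_ext _ _ fun i => ?_
    simp [Preadditive.nsmul_comp, Preadditive.comp_nsmul]
  rw [← e]
  infer_instance

theorem qMod_of_sections {F : EtCoh.Ab X}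
    (h : ∀ (U : X.Etale) (m : ℕ), 0 < m → Function.Bijective (fun s : EtCoh.sect F U => m • s)) : QMod F := by
  intro n hn
  haveI : ∀ U, IsIso ((n • 𝟙 F).hom.app U) := fun U => by
    refine (ConcreteCategory.isIso_iff_bijective _).2 ?_
    have e : ⇑((n • 𝟙 F).hom.app U) = fun s : EtCoh.sect F U.unop => n • s :=
      funext fun s => nsmul_hom_app (𝟙 F) n U.unop s
    rw [e]
    exact h U.unop n hn
  haveI : IsIso ((sheafToPresheaf X.smallEtaleTopology AddCommGrpCat.{u + 1}).map (n • 𝟙 F)) :=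
    NatIso.isIso_of_isIso_app (n • 𝟙 F).hom
  exact isIso_of_reflects_iso (n • 𝟙 F) (sheafToPresheaf X.smallEtaleTopology AddCommGrpCat.{u + 1})

theorem eq_zero_of_qMod {F : EtCoh.Ab X} (hF : QMod F) (q : ℕ) {x : EtCoh.H X F q}
    {n : ℕ} (hn : 0 < n) (hx : n • x = 0) : x = 0 := by
  haveI := hF n hn
  rw [EtTrace.nsmul_eq_comp] at hx
  have := congrArg (fun y => Ext.comp y (Ext.mk₀ (inv (n • 𝟙 F))) (add_zero q)) hx
  simpa [Ext.comp_assoc_of_third_deg_zero, Ext.mk₀_comp_mk₀, Ext.mk₀_id_comp, Ext.comp_mk₀_id] using this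

/-- the direct image from a point has no higher cohomology -/
theorem subsingleton_H_point [IsNoetherian X] (x : X) (G : EtCoh.Ab (Spec (X.residueField x))) (hG : QMod G)
    (q : ℕ) : Subsingleton (EtCoh.H X ((EtCoh.push (X.fromSpecResidueField x)).obj G) (q + 1)) := by
  haveI := push_preservesFiniteLimits (X.fromSpecResidueField x)
  haveI : QuasiSeparatedSpace X := inferInstance
  haveI : QuasiCompact (X.fromSpecResidueField x) :=
    (quasiCompact_iff _).2 fun U _ _ => (Set.toFinite _).isCompact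
  haveI : QuasiSeparated (X.fromSpecResidueField x) := inferInstance
  refine subsingleton_of_forall_eq 0 fun a => ?_
  obtain ⟨N, hN, h0⟩ := EtTrace.exists_nsmul_H_push (X.fromSpecResidueField x)
    (fun F n W hW a => haveI := hW.1; EtTrace.exists_nsmul_ext F n a)
    (fun F n a => EtTrace.exists_nsmul_H_field F n.succ_pos a) q G a
  exact eq_zero_of_qMod (qMod_map (EtCoh.push (X.fromSpecResidueField x)) hG) (q + 1) hN h0

/-- the direct image from a point vanishes off the closure -/
theorem isZero_stalk_push_point (x : X) (G : EtCoh.Ab (Spec (X.residueField x))) {Ω : Type u} [Field Ω]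
    [IsSepClosed Ω] (ξ : Spec (CommRingCat.of Ω) ⟶ X) (hξ : ¬ x ⤳ ξ.base (default : Spec (CommRingCat.of Ω))) :
    IsZero ((EtCoh.stalk ξ).obj ((EtCoh.push (X.fromSpecResidueField x)).obj G)) := by
  obtain ⟨h⟩ := nonempty_unique_stalk (A := AddCommGrpCat.{u + 1}) (isClosed_closure (s := ({x} : Set X)))
    ((EtCoh.push (X.fromSpecResidueField x)).obj G) (fun V hV => push_unique_of_disjoint _ G V (hV.mono_right
      (by rw [Scheme.range_fromSpecResidueField]; exact subset_closure))) ξ
    (fun h => hξ (specializes_iff_mem_closure.2 h))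
  exact @AddCommGrpCat.isZero_of_subsingleton _ ⟨fun a b => (h.eq_default a).trans (h.eq_default b).symm⟩

theorem finite_gen [IsNoetherian X] : ((nonGen X)ᶜ : Set X).Finite := by
  have hf := TopologicalSpace.NoetherianSpace.finite_irreducibleComponents (α := X)
  refine Set.Finite.of_finite_image (f := fun x => closure ({x} : Set X)) (hf.subset ?_) fun a _ b _ hab => ?_
  · rintro _ ⟨x, hx, rfl⟩
    refine ⟨isIrreducible_singleton.closure, fun S hS hle => ?_⟩
    have hg := hS.isGenericPoint_genericPoint_closure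
    have hy : hS.genericPoint ⤳ x := hg.specializes (subset_closure (hle (subset_closure rfl)))
    have he : hS.genericPoint = x := by
      by_contra hne
      exact hx ⟨_, hy, hne⟩
    rw [he] at hg
    intro z hz
    exact specializes_iff_mem_closure.1 (hg.specializes (subset_closure hz))
  · have hab' : closure ({a} : Set X) = closure {b} := hab
    exact ((specializes_iff_mem_closure.2 (hab' ▸ subset_closure rfl : b ∈ closure ({a} : Set X))).antisymm
      (specializes_iff_mem_closure.2 (hab'.symm ▸ subset_closure rfl : a ∈ closure ({b} : Set X)))).eq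

/-- induction hypothesis: vanishing above `d` -/
def VanishAbove (d : ℕ) : Prop :=
  ∀ (X : Scheme.{u}) [IsNoetherian X], topologicalKrullDim ↥X ≤ (d : ℕ) → ∀ (F : EtCoh.Ab X), QMod F →
    ∀ i : ℕ, d < i → Subsingleton (EtCoh.H X F i)

theorem subsingleton_H_of_iso {F G : EtCoh.Ab X} (e : F ≅ G) (q : ℕ) (h : Subsingleton (EtCoh.H X F q)) :
    Subsingleton (EtCoh.H X G q) :=
  @Function.Injective.subsingleton _ (EtCoh.H X F q) _
    ((EtCoh.HF X q).mapIso e.symm).addCommGroupIsoToAddEquiv.injective h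

/-- sheaves supported off the generic points lose one degree -/
theorem subsingleton_H_nonGen {d : ℕ} (ih : VanishAbove.{u} d) [IsNoetherian X]
    (hd : topologicalKrullDim ↥X ≤ (d + 1 : ℕ)) {F : EtCoh.Ab X} (hF : QMod F) (hs : EtPBC.supp F ⊆ nonGen X)
    (i : ℕ) (hi : d < i) : Subsingleton (EtCoh.H X F i) := by
  haveI := isIso_gDesc F hs
  haveI := EtLC12.QcqsAcyclic.preservesColimitsOfShape_HF X i (GIdx X)
  let hc := isColimitOfPreserves (EtCoh.HF X i) (colimit.isColimit (gParts F))
  have h0 : IsZero ((EtCoh.HF X i).obj (colimit (gParts F))) := by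
    refine (IsZero.iff_id_eq_zero _).2 (hc.hom_ext fun s => ?_)
    suffices Subsingleton (EtCoh.H X (gPart F s) i) from
      (@AddCommGrpCat.isZero_of_subsingleton ((EtCoh.HF X i).obj ((gParts F).obj s)) this).eq_of_src _ _
    let I := Scheme.IdealSheafData.vanishingIdeal ⟨gSet s, isClosed_gSet s⟩
    let c := I.subschemeι
    have hr : Set.range c.base = gSet s :=
      I.range_subschemeι.trans (Scheme.IdealSheafData.coe_support_vanishingIdeal _)
    haveI : IsLocallyNoetherian I.subscheme := LocallyOfFiniteType.isLocallyNoetherian c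
    haveI : CompactSpace ↥I.subscheme := QuasiCompact.compactSpace_of_compactSpace c
    haveI : IsNoetherian I.subscheme := ⟨⟩
    have hdim : topologicalKrullDim ↥I.subscheme ≤ (d : ℕ) := by
      refine le_trans (Topology.IsInducing.topologicalKrullDim_le
        (f := fun z => (⟨c.base z, hr ▸ ⟨z, rfl⟩⟩ : gSet s)) ?_) (topologicalKrullDim_gSet s hd)
      exact Topology.IsInducing.codRestrict c.isEmbedding.toIsInducing _
    haveI : IsIso ((EtCoh.pullPushAdj c).unit.app (gPart F s)) :=
      unit_isIso_of_supp c (gPart F s) fun k _ _ ξ hξ => isZero_stalk_gPart F s ξ (hr ▸ hξ)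
    haveI := pull_preservesFiniteLimits c
    haveI : (EtCoh.pull c).IsLeftAdjoint := (EtCoh.pullPushAdj c).isLeftAdjoint
    haveI := preservesBinaryBiproducts_of_preservesBinaryCoproducts (EtCoh.pull c)
    haveI : (EtCoh.pull c).Additive := Functor.additive_of_preservesBinaryBiproducts _
    have hq : QMod (gPart F s) := by
      haveI := pull_preservesFiniteLimits (gComp s).ι
      haveI : (EtCoh.pull (gComp s).ι).IsLeftAdjoint := (EtCoh.pullPushAdj (gComp s).ι).isLeftAdjoint
      haveI := preservesBinaryBiproducts_of_preservesBinaryCoproducts (EtCoh.pull (gComp s).ι)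
      haveI : (EtCoh.pull (gComp s).ι).Additive := Functor.additive_of_preservesBinaryBiproducts _
      exact qMod_kernel hF (qMod_map (EtCoh.push (gComp s).ι) (qMod_map (EtCoh.pull (gComp s).ι) hF)) (gRes F s)
    have h2 := S0171.subsingleton_H_push c ((EtCoh.pull c).obj (gPart F s)) i
      (ih I.subscheme hdim _ (qMod_map (EtCoh.pull c) hq) i hi)
    exact subsingleton_H_of_iso (asIso ((EtCoh.pullPushAdj c).unit.app (gPart F s))).symm i h2
  exact AddCommGrpCat.subsingleton_of_isZero
    (h0.of_iso ((EtCoh.HF X i).mapIso (asIso (colimit.desc (gParts F) (gCocone F)))).symm)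

theorem biproduct_total {ι : Type u} [Fintype ι] (P : ι → EtCoh.Ab X) :
    ∑ k, biproduct.π P k ≫ biproduct.ι P k = 𝟙 (⨁ P) := by
  classical
  refine biproduct.hom_ext _ _ fun m => ?_
  simp [Preadditive.sum_comp, Category.assoc, biproduct.ι_π, comp_dite]

theorem subsingleton_H_biproduct {ι : Type u} [Finite ι] (P : ι → EtCoh.Ab X) (q : ℕ)
    (h : ∀ i, Subsingleton (EtCoh.H X (P i) q)) : Subsingleton (EtCoh.H X (⨁ P) q) := by
  haveI := Fintype.ofFinite ι
  classical
  refine subsingleton_of_forall_eq 0 fun x => ?_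
  have e : x = x.comp (Ext.mk₀ (∑ i, biproduct.π P i ≫ biproduct.ι P i)) (add_zero q) := by
    rw [biproduct_total, Ext.comp_mk₀_id]
  rw [e, Ext.mk₀_sum, Ext.comp_sum]
  refine Finset.sum_eq_zero fun i _ => ?_
  rw [← Ext.mk₀_comp_mk₀, ← Ext.comp_assoc_of_third_deg_zero,
    @Subsingleton.elim _ (h i) (x.comp (Ext.mk₀ (biproduct.π P i)) (add_zero q)) 0, Ext.zero_comp]

theorem subsingleton_H_middle {S : ShortComplex (EtCoh.Ab X)} (hS : S.ShortExact) (q : ℕ)
    (h1 : Subsingleton (EtCoh.H X S.X₁ q)) (h3 : Subsingleton (EtCoh.H X S.X₃ q)) :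
    Subsingleton (EtCoh.H X S.X₂ q) := by
  refine subsingleton_of_forall_eq 0 fun x => ?_
  obtain ⟨y, rfl⟩ := Ext.covariant_sequence_exact₂ _ hS x (@Subsingleton.elim _ h3 _ _)
  rw [@Subsingleton.elim _ h1 y 0, Ext.zero_comp]

theorem subsingleton_H_left {S : ShortComplex (EtCoh.Ab X)} (hS : S.ShortExact) (q : ℕ)
    (h2 : Subsingleton (EtCoh.H X S.X₂ (q + 1))) (h3 : Subsingleton (EtCoh.H X S.X₃ q)) :
    Subsingleton (EtCoh.H X S.X₁ (q + 1)) := by
  refine subsingleton_of_forall_eq 0 fun x => ?_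
  obtain ⟨y, rfl⟩ := Ext.covariant_sequence_exact₁ _ hS x (@Subsingleton.elim _ h2 _ _) rfl
  rw [@Subsingleton.elim _ h3 y 0, Ext.zero_comp]

theorem vanishAbove_step (d : ℕ) (van : ∀ (X : Scheme.{u}) [IsNoetherian X], topologicalKrullDim ↥X ≤ (d : ℕ) →
    ∀ (G : EtCoh.Ab X), QMod G → EtPBC.supp G ⊆ nonGen X → ∀ i : ℕ, d ≤ i → Subsingleton (EtCoh.H X G i)) :
    VanishAbove.{u} d := by
  intro X _ hd F hF i hi
  classical
  obtain ⟨i, rfl⟩ := Nat.exists_eq_succ_of_ne_zero (Nat.ne_of_gt (Nat.lt_of_le_of_lt (Nat.zero_le d) hi))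
  let ι : Type u := ↥((nonGen X)ᶜ : Set X)
  haveI : Finite ι := finite_gen.to_subtype
  haveI := Fintype.ofFinite ι
  let j : ∀ g : ι, Spec (X.residueField g.1) ⟶ X := fun g => X.fromSpecResidueField g.1
  haveI : ∀ g, (EtCoh.pull (j g)).Additive := fun g => by
    haveI : (EtCoh.pull (j g)).IsLeftAdjoint := (EtCoh.pullPushAdj (j g)).isLeftAdjoint
    haveI := preservesBinaryBiproducts_of_preservesBinaryCoproducts (EtCoh.pull (j g))
    exact Functor.additive_of_preservesBinaryBiproducts _
  let P : ι → EtCoh.Ab X := fun g => (EtCoh.push (j g)).obj ((EtCoh.pull (j g)).obj F)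
  let φ : F ⟶ ⨁ P := biproduct.lift fun g => (EtCoh.pullPushAdj (j g)).unit.app F
  have hP : ∀ g, QMod (P g) := fun g => qMod_map (EtCoh.push (j g)) (qMod_map (EtCoh.pull (j g)) hF)
  have hφ : ∀ (Ω : Type u) [Field Ω] [IsSepClosed Ω] (ξ : Spec (CommRingCat.of Ω) ⟶ X),
      ξ.base (default : Spec (CommRingCat.of Ω)) ∉ nonGen X → IsIso ((EtCoh.stalk ξ).map φ) := by
    intro Ω _ _ ξ hξ
    let g : ι := ⟨_, hξ⟩
    haveI : (EtCoh.stalk ξ).Additive := Functor.additive_of_preserves_binary_products _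
    haveI : IsIso ((EtCoh.stalk ξ).map ((EtCoh.pullPushAdj (j g)).unit.app F)) :=
      isIso_stalk_unit_point g.1 F ξ rfl
    haveI : IsIso ((EtCoh.stalk ξ).map (biproduct.π P g)) := by
      refine ⟨(EtCoh.stalk ξ).map (biproduct.ι P g), ?_, ?_⟩
      · have hid : (EtCoh.stalk ξ).map (∑ k, biproduct.π P k ≫ biproduct.ι P k) = 𝟙 _ := by
          rw [biproduct_total, CategoryTheory.Functor.map_id]
        rw [Functor.map_sum, Finset.sum_eq_single g (fun k _ hk => ?_) (by simp)] at hid
        · rw [← Functor.map_comp]; exact hid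
        · rw [Functor.map_comp]
          refine (congrArg (· ≫ _) ((isZero_stalk_push_point k.1 _ ξ fun h => hk (Subtype.ext ?_)).eq_of_tgt
            ((EtCoh.stalk ξ).map (biproduct.π P k)) 0)).trans zero_comp
          by_contra hne
          exact hξ ⟨k.1, h, hne⟩
      · rw [← Functor.map_comp, biproduct.ι_π_self, CategoryTheory.Functor.map_id]
    have hfac : (EtCoh.stalk ξ).map φ ≫ (EtCoh.stalk ξ).map (biproduct.π P g) =
        (EtCoh.stalk ξ).map ((EtCoh.pullPushAdj (j g)).unit.app F) := by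
      rw [← Functor.map_comp, biproduct.lift_π]
    exact IsIso.of_isIso_fac_right hfac
  have hsupp : ∀ G : EtCoh.Ab X, (∀ (Ω : Type u) [Field Ω] [IsSepClosed Ω] (ξ : Spec (CommRingCat.of Ω) ⟶ X),
      ξ.base (default : Spec (CommRingCat.of Ω)) ∉ nonGen X → IsZero ((EtCoh.stalk ξ).obj G)) →
      EtPBC.supp G ⊆ nonGen X := by
    intro G hG x ⟨Ω, _, _, ξ, hr, hne⟩
    by_contra hx
    have hb : ξ.base (default : Spec (CommRingCat.of Ω)) = x :=
      Set.mem_singleton_iff.1 (hr ▸ ⟨_, rfl⟩)
    exact hne (hG Ω ξ (hb ▸ hx))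
  let S₁ := ShortComplex.mk (kernel.ι φ) (Abelian.factorThruImage φ) (by
    rw [← cancel_mono (Abelian.image.ι φ), Category.assoc, Abelian.image.fac, kernel.condition, zero_comp])
  let S₂ := ShortComplex.mk (Abelian.image.ι φ) (cokernel.π φ) (kernel.condition _)
  have hS₂ : S₂.ShortExact := { exact := ShortComplex.exact_of_f_is_kernel _ (kernelIsKernel _) }
  have hS₁ : S₁.ShortExact :=
    { exact := ShortComplex.exact_of_f_is_kernel _ (KernelFork.IsLimit.ofι' _ _ fun {W} k hk => by
        refine ⟨kernel.lift φ k ?_, kernel.lift_ι _ _ _⟩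
        rw [← Abelian.image.fac φ, ← Category.assoc, hk, zero_comp]) }
  have hker : Subsingleton (EtCoh.H X S₁.X₁ (i + 1)) := by
    refine van X hd _ (qMod_kernel hF (qMod_biproduct P hP) φ) (hsupp _ fun Ω _ _ ξ hξ => ?_) (i + 1) hi.le
    haveI := hφ Ω ξ hξ
    refine IsZero.of_mono_eq_zero ((EtCoh.stalk ξ).map (kernel.ι φ)) ?_
    rw [← cancel_mono ((EtCoh.stalk ξ).map φ), ← Functor.map_comp, kernel.condition, Functor.map_zero, zero_comp]
  have hcok : Subsingleton (EtCoh.H X S₂.X₃ i) := by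
    refine van X hd _ (qMod_cokernel hF (qMod_biproduct P hP) φ) (hsupp _ fun Ω _ _ ξ hξ => ?_) i
      (Nat.le_of_lt_succ hi)
    haveI := hφ Ω ξ hξ
    refine IsZero.of_epi_eq_zero ((EtCoh.stalk ξ).map (cokernel.π φ)) ?_
    rw [← cancel_epi ((EtCoh.stalk ξ).map φ), ← Functor.map_comp, cokernel.condition, Functor.map_zero, comp_zero]
  have hmid : Subsingleton (EtCoh.H X S₂.X₂ (i + 1)) :=
    subsingleton_H_biproduct P (i + 1) fun g => subsingleton_H_point g.1 _ (qMod_map (EtCoh.pull (j g)) hF) i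
  exact subsingleton_H_middle hS₁ (i + 1) hker (subsingleton_H_left hS₂ i hmid hcok)

theorem vanishAbove : ∀ d : ℕ, VanishAbove.{u} d
  | 0 => vanishAbove_step 0 fun X _ hd G _ hG i _ => by
    have hz : IsZero G := (isZero_iff_stalks G).2 fun Ω _ _ ξ => by
      by_contra h
      have := hG ⟨Ω, _, _, ξ, range_point ξ, h⟩
      rw [nonGen_eq_empty hd] at this
      exact this
    refine subsingleton_of_forall_eq 0 fun x => ?_
    rw [← Ext.comp_mk₀_id x, (IsZero.iff_id_eq_zero G).1 hz, Ext.mk₀_zero, Ext.comp_zero]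
  | d + 1 => vanishAbove_step (d + 1) fun X _ hd G hQ hG i hi =>
    subsingleton_H_nonGen (vanishAbove d) hd hQ hG i hi

end Groth.Agent.RatCoh13
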