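import Groth.Agent.EtFound.LiftEtaleLoc
import Groth.Agent.EtFound.Immersion
import Groth.Agent.EtFound.AbRecollement
import Groth.Agent.EtFound.UnivInjPush
import Mathlib.AlgebraicGeometry.ResidueField

/-! Etale neighbourhoods lift along localizations and residue fields -/

set_option autoImplicit false
set_option backward.isDefEq.respectTransparency false
set_option backward.isDefEq.respectTransparency.types false
set_option linter.style.haveILetI false

universe u

open CategoryTheory CategoryTheory.Limits AlgebraicGeometry Opposite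
open scoped TensorProduct

namespace Groth.Agent.RatCoh13

open Groth.Agent.EtFound

theorem liftable_localization (A T : Type u) [CommRing A] [CommRing T] [Algebra A T] (S : Submonoid A)
    [IsLocalization S T] : Liftable (Spec.map (CommRingCat.ofHom (algebraMap A T))) := by
  intro U x
  have : AlgebraicGeometry.Etale U.hom := U.prop
  obtain ⟨C0, w, hw, hu0, -⟩ := Scheme.exists_affine_mem_range_and_range_subset
    (x := x) (U := (⊤ : U.left.Opens)) (by simp)
  obtain ⟨c, hc⟩ := hu0
  obtain ⟨φ, hφ⟩ := Spec.map_surjective (w ≫ U.hom)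
  algebraize [φ.hom]
  have : Algebra.Etale T C0 := by
    have h : AlgebraicGeometry.Etale (Spec.map φ) := by rw [hφ]; infer_instance
    exact RingHom.etale_algebraMap.1 ((HasRingHomProperty.Spec_iff (P := @AlgebraicGeometry.Etale)).mp h)
  obtain ⟨g, hgc, hC⟩ := Algebra.IsEtaleAt.exists_isStandardEtale (R := T) c.asIdeal
  obtain ⟨P, ⟨eC⟩⟩ := exists_standardEtale_lift_loc (A := A) (T := T) (C := Localization.Away g) S
  let B : CommRingCat.{u} := CommRingCat.of P.Ring
  let b : Spec B ⟶ Spec (CommRingCat.of A) := Spec.map (CommRingCat.ofHom (algebraMap A P.Ring))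
  let q : Spec (CommRingCat.of T) ⟶ Spec (CommRingCat.of A) := Spec.map (CommRingCat.ofHom (algebraMap A T))
  have hb : AlgebraicGeometry.Etale b := by
    rw [HasRingHomProperty.Spec_iff (P := @AlgebraicGeometry.Etale)]
    exact RingHom.etale_algebraMap.2 inferInstance
  let V : (Spec (CommRingCat.of A)).Etale := Scheme.Etale.mk b
  let L : CommRingCat.{u} := CommRingCat.of (Localization.Away g)
  let π : Spec L ⟶ Spec (CommRingCat.of T) := Spec.map (CommRingCat.ofHom (algebraMap T (Localization.Away g)))
  let m : Spec L ⟶ Spec B := Spec.map (CommRingCat.ofHom ((eC.toRingEquiv.toRingHom).comp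
    (Algebra.TensorProduct.includeRight (R := A) (A := T) (B := P.Ring)).toRingHom))
  let ε : Spec L ≅ Spec (CommRingCat.of (T ⊗[A] P.Ring)) :=
    Scheme.Spec.mapIso (eC.toRingEquiv.toCommRingCatIso).op
  have sq2 : IsPullback π m q b := by
    refine (IsPullback.of_hasPullback q b).of_iso ((pullbackSpecIso A T P.Ring) ≪≫ ε.symm)
      (Iso.refl _) (Iso.refl _) (Iso.refl _) ?_ ?_ (by simp) (by simp)
    · have e1 : ε.hom ≫ Spec.map (CommRingCat.ofHom (algebraMap T (T ⊗[A] P.Ring))) = π := by
        change Spec.map _ ≫ Spec.map _ = _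
        rw [← Spec.map_comp]
        refine congrArg Spec.map ?_
        ext r
        exact eC.commutes r
      rw [← e1]
      change _ ≫ 𝟙 _ = ((pullbackSpecIso A T P.Ring).hom ≫ ε.inv) ≫ ε.hom ≫ _
      rw [Category.comp_id, Category.assoc, Iso.inv_hom_id_assoc]
      exact (pullbackSpecIso_hom_fst' _ _ _).symm
    · have e2 : ε.hom ≫ Spec.map (CommRingCat.ofHom
          (Algebra.TensorProduct.includeRight (R := A) (A := T) (B := P.Ring)).toRingHom) = m := by
        change Spec.map _ ≫ Spec.map _ = _
        rw [← Spec.map_comp]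
        rfl
      rw [← e2]
      change _ ≫ 𝟙 _ = ((pullbackSpecIso A T P.Ring).hom ≫ ε.inv) ≫ ε.hom ≫ _
      rw [Category.comp_id, Category.assoc, Iso.inv_hom_id_assoc]
      exact (pullbackSpecIso_hom_snd _ _ _).symm
  let o : Spec L ⟶ U.left := Spec.map (CommRingCat.ofHom (algebraMap C0 (Localization.Away g))) ≫ w
  have hof : o ≫ U.hom = π := by
    simp only [o, Category.assoc]
    rw [← hφ, ← Spec.map_comp]
    refine congrArg Spec.map ?_
    ext r
    exact (IsScalarTower.algebraMap_apply T C0 (Localization.Away g) r).symm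
  refine ⟨V, MorphismProperty.Over.homMk (sq2.flip.isoPullback.inv ≫ o) ?_, ?_⟩
  · rw [Category.assoc, hof]
    exact sq2.flip.isoPullback_inv_snd
  · have hcg : c ∈ Set.range (Spec.map (CommRingCat.ofHom (algebraMap C0 (Localization.Away g)))).base :=
      (PrimeSpectrum.localization_away_comap_range (Localization.Away g) g).ge hgc
    obtain ⟨l, hl⟩ := hcg
    obtain ⟨p', hp'⟩ := sq2.flip.isoPullback.inv.surjective l
    refine ⟨p', (Scheme.Hom.comp_apply _ _ p').trans ((congrArg o.base hp').trans ?_)⟩
    exact (Scheme.Hom.comp_apply _ _ l).trans ((congrArg w.base hl).trans hc)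

theorem liftable_fromSpecStalk {X : Scheme.{u}} (x : X) : Liftable (X.fromSpecStalk x) := by
  obtain ⟨_, ⟨U, hU, rfl⟩, hx, -⟩ :=
    X.isBasis_affineOpens.exists_subset_of_mem_open (Set.mem_univ x) isOpen_univ
  replace hU : IsAffineOpen U := hU
  rw [← hU.fromSpecStalk_eq_fromSpecStalk hx, IsAffineOpen.fromSpecStalk]
  refine liftable_comp _ _ ?_ ?_
  · letI : Algebra Γ(X, U) (X.presheaf.stalk x) := (X.presheaf.germ U x hx).hom.toAlgebra
    haveI : IsLocalization.AtPrime (X.presheaf.stalk x) (hU.primeIdealOf ⟨x, hx⟩).asIdeal :=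
      hU.isLocalization_stalk ⟨x, hx⟩
    exact liftable_localization Γ(X, U) (X.presheaf.stalk x) (hU.primeIdealOf ⟨x, hx⟩).asIdeal.primeCompl
  · haveI := hU.isOpenImmersion_fromSpec
    exact liftable_of_isOpenImmersion _

theorem liftable_fromSpecResidueField {X : Scheme.{u}} (x : X) : Liftable (X.fromSpecResidueField x) := by
  refine liftable_comp (Spec.map (X.residue x)) (X.fromSpecStalk x) ?_ (liftable_fromSpecStalk x)
  haveI : IsClosedImmersion (Spec.map (X.residue x)) :=
    IsClosedImmersion.spec_of_surjective _ (X.residue_surjective x)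
  exact liftable_of_isClosedImmersion _

/-- the unit at a point is bijective on stalks there -/
theorem isIso_stalk_unit_point {X : Scheme.{u}} (x : X) (F : EtCoh.Ab X)
    {Ω : Type u} [Field Ω] [IsSepClosed Ω] (ξ : Spec (CommRingCat.of Ω) ⟶ X)
    (hξ : ξ.base (default : Spec (CommRingCat.of Ω)) = x) :
    IsIso ((EtCoh.stalk ξ).map ((EtCoh.pullPushAdj (X.fromSpecResidueField x)).unit.app F)) := by
  let j := X.fromSpecResidueField x
  refine isIso_stalk_of_lift j _ ξ (by rw [Scheme.range_fromSpecResidueField]; exact hξ) fun k _ _ z => ?_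
  refine (NatIso.isIso_map_iff (sheafFiberPullIso (A := AddCommGrpCat.{u + 1}) j z) _).1 ?_
  have := counit_isIso' (A := AddCommGrpCat.{u + 1}) j (liftable_fromSpecResidueField x)
    (univEmb_of_isPreimmersion j) ((EtCoh.pull j).obj F)
  have : IsIso ((EtCoh.pull j).map ((EtCoh.pullPushAdj j).unit.app F)) :=
    @IsIso.of_isIso_fac_right _ _ _ _ _ _ _ _ this (IsIso.id _) ((EtCoh.pullPushAdj j).left_triangle_components F)
  exact inferInstanceAs (IsIso ((EtCoh.stalk z).map ((EtCoh.pull j).map ((EtCoh.pullPushAdj j).unit.app F))))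

end Groth.Agent.RatCoh13
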